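import Groth.Agent.Lib.RHom.K0Coh
import Groth.Agent.Lib.FMHyp13.GenericRank
import Groth.Agent.Lib.EulerAdd18.Basic
import Groth.Agent.Lib.DPush9.Coh
import Groth.Agent.Lib.CMReg18.TwistBC
import Groth.Agent.Lib.FMBase13.Functors

/-!
# Euler characteristics of derived direct images
-/

set_option autoImplicit false
set_option linter.style.haveILetI false
set_option linter.unusedSectionVars false
set_option backward.isDefEq.respectTransparency false
set_option backward.isDefEq.respectTransparency.types false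
set_option maxHeartbeats 800000

universe u w v

open CategoryTheory CategoryTheory.Limits CategoryTheory.Pretriangulated AlgebraicGeometry

attribute [local instance] HasDerivedCategory.standard

noncomputable section

namespace Groth.Agent.EulerPush13

attribute [local instance] DBC9.hasRpush

/-- Coherent modules. -/
abbrev coh (X : Scheme.{u}) : ObjectProperty X.Modules := fun M => Coh.IsCoh M

/-- Coherent modules form a Serre class. -/
theorem serre (X : Scheme.{u}) [IsLocallyNoetherian X] : K0Db.Serre (coh X) where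
  zero h := DPerf.isCoh_of_isZero h
  iso e h := RHom.mid_coh.iso e h
  ker f hM hN := M1.isCoh_kernel hM hN.1 f
  coker f hM hN := M1.isCoh_cokernel hM.1 hN f
  ext hS h₁ h₃ := RHom.isCoh_of_shortExact hS h₁ h₃

/-- Shifting multiplies the Euler characteristic by a sign. -/
theorem chi_shift {A : Type u} [Category.{v} A] [Abelian A] [HasDerivedCategory.{w} A] {P : ObjectProperty A}
    (hP : K0Db.Serre P) (K : DerivedCategory A) (hK : K0Db.BdP P K) (n : ℤ) :
    K0Db.BdP P (K⟦n⟧) ∧ K0Db.chi P (K⟦n⟧) = ((n.negOnePow : ℤˣ) : ℤ) • K0Db.chi P K := by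
  let e : ∀ i : ℤ, (DerivedCategory.homologyFunctor A i).obj (K⟦n⟧) ≅
      (DerivedCategory.homologyFunctor A (n + i)).obj K := fun i =>
    ((DerivedCategory.homologyFunctor A 0).shiftIso n i (n + i) rfl).app K
  refine ⟨⟨fun i => hP.iso (e i).symm (hK.1 _), ?_⟩, ?_⟩
  · obtain ⟨-, a, b, ha, hb⟩ := hK
    exact ⟨a - n, b - n, DerivedCategory.TStructure.t.isGE_shift K a n (a - n) (by omega),
      DerivedCategory.TStructure.t.isLE_shift K b n (b - n) (by omega)⟩
  · have key : ∀ i, K0Db.term P (K⟦n⟧) i = ((n.negOnePow : ℤˣ) : ℤ) • K0Db.term P K (n + i) := fun i => by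
      simp only [K0Db.term, smul_smul]
      rw [K0Db.clSub_iso hP (e i) (hP.iso (e i).symm (hK.1 _))]
      congr 1
      rw [← Units.val_mul, Int.negOnePow_add, ← _root_.mul_assoc, Int.units_mul_self, one_mul]
    unfold K0Db.chi
    rw [finsum_congr key, ← smul_finsum' _ (by
      exact (K0Db.finite_support_term hP hK).preimage (fun a _ b _ h => by simpa using h))]
    congr 1
    exact finsum_comp_equiv (f := K0Db.term P K) (Equiv.addLeft n)

variable {k : Type u} [Field k]

/-- Additivity of the rank on the spectrum of a field. -/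
theorem genRk_add (S : ShortComplex (Spec (CommRingCat.of k)).Modules) (hS : S.ShortExact)
    (h₁ : Coh.IsCoh S.X₁) (h₃ : Coh.IsCoh S.X₃) :
    (FMHyp13.genRk S.X₂ : ℤ) = FMHyp13.genRk S.X₁ + FMHyp13.genRk S.X₃ := by
  let η := genericPoint (Spec (CommRingCat.of k))
  have hS' := DPerf.shortExact_stF hS η
  haveI h2 : Module.Finite _ (S.X₂.presheaf.stalk η) :=
    M1.finite_stalk (RHom.isCoh_of_shortExact hS h₁ h₃).1 (RHom.isCoh_of_shortExact hS h₁ h₃).2 η
  have hex := (ShortComplex.ShortExact.moduleCat_exact_iff_function_exact _).1 hS'.exact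
  haveI : Module.Finite _ (S.map (KFlat.Sch.stF η)).X₂ := h2
  have hr := Submodule.finrank_quotient_add_finrank (LinearMap.ker (S.map (KFlat.Sch.stF η)).g.hom)
  rw [(LinearMap.quotKerEquivRange (S.map (KFlat.Sch.stF η)).g.hom).finrank_eq,
    LinearMap.range_eq_top.2 hS'.moduleCat_surjective_g, finrank_top, hex.linearMap_ker_eq,
    LinearMap.finrank_range_of_inj hS'.moduleCat_injective_f] at hr
  show ((Module.finrank _ (S.X₂.presheaf.stalk η) : ℕ) : ℤ) = _
  rw [show Module.finrank ((Spec (CommRingCat.of k)).presheaf.stalk η) (S.X₂.presheaf.stalk η) =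
    FMHyp13.genRk S.X₃ + FMHyp13.genRk S.X₁ from hr.symm]
  push_cast
  exact add_comm _ _

/-- The rank on classes. -/
def rkHom (k : Type u) [Field k] : KZero.K0sub (coh (Spec (CommRingCat.of k))) →+ ℤ :=
  K0Cat.liftSub (fun M => (FMHyp13.genRk M.1 : ℤ)) fun S h₁ _ h₃ hS => genRk_add S hS h₁ h₃

variable {X : Scheme.{u}} [X.Over (Spec (CommRingCat.of k))] [IsProper (X ↘ Spec (CommRingCat.of k))]

/-- The rank of a higher direct image to a point. -/
theorem genRk_rpush [HasInjectiveResolutions X.Modules] {M : X.Modules} (hM : Coh.IsCoh M) (p : ℕ) :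
    FMHyp13.genRk ((Coh.Rpush (X ↘ Spec (CommRingCat.of k)) p).obj M) = Module.finrank k (Coh.HH X M p) := by
  rw [← FMHyp13.fiberRank_genericPoint _ hM (NumPoly18.isFlatOver_field _ _) p,
    show genericPoint (Spec (CommRingCat.of k)) = (𝟙 (Spec (CommRingCat.of k)) :
      Spec (CommRingCat.of k) ⟶ _).base ⟨⊥, Ideal.isPrime_bot⟩ from Subsingleton.elim (α := PrimeSpectrum k) _ _,
    NumPoly18.fiberRank_eq_finrank _ hM (NumPoly18.isFlatOver_field _ _) (𝟙 X) (𝟙 _)
      (IsPullback.of_horiz_isIso ⟨by simp⟩) p]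
  exact (CBC10.hmapLinEquiv k ((Scheme.Modules.pullbackId X).app M) p).finrank_eq

/-- The Euler characteristic on classes. -/
def eulerHom (k : Type u) [Field k] (X : Scheme.{u}) [X.Over (Spec (CommRingCat.of k))]
    [IsProper (X ↘ Spec (CommRingCat.of k))] : KZero.K0sub (coh X) →+ ℤ :=
  K0Cat.liftSub (fun M => Curv2.euler k X M.1) fun S h₁ h₂ h₃ hS =>
    EulerAdd18.euler_add hS ((EulerAdd18.exists_bdd k X).choose_spec _ h₁)
      ((EulerAdd18.exists_bdd k X).choose_spec _ h₂) ((EulerAdd18.exists_bdd k X).choose_spec _ h₃)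

/-- Derived direct images of bounded coherent objects are bounded coherent. -/
theorem bdP_rpush {Y S : Scheme.{u}} [IsLocallyNoetherian S] [CompactSpace S] (f : Y ⟶ S) [IsProper f]
    {K : DCoh.D Y} (hK : K0Db.BdP (coh Y) K) : K0Db.BdP (coh S) ((DCoh.Rpush f).obj K) := by
  obtain ⟨hc, a, b, ha, hb⟩ := hK
  have hs := fun i => CMReg18.isProperOver_support f (hc i)
  obtain ⟨b', hb'⟩ := DPush9.exists_isLE_rpush f K a b ha hb hc hs
  exact ⟨DPush9.isCohD_rpush f K a ha hc hs, a, b', DPush.isGE_rpush f K a ha, hb'⟩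

/-- Finsums supported on natural numbers. -/
theorem finsum_nat {M : Type*} [AddCommMonoid M] (φ : ℤ → M) (h : ∀ i, i < 0 → φ i = 0) :
    ∑ᶠ i, φ i = ∑ᶠ p : ℕ, φ (p : ℤ) := by
  rw [← finsum_mem_univ φ, finsum_mem_inter_support_eq φ Set.univ (Set.range ((↑) : ℕ → ℤ)) ?_,
    finsum_mem_range Nat.cast_injective]
  ext i
  simp only [Set.mem_inter_iff, Set.mem_univ, true_and, Function.mem_support, ne_eq, Set.mem_range]
  refine ⟨fun hi => ⟨⟨i.toNat, ?_⟩, hi⟩, fun hi => hi.2⟩
  by_contra hne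
  exact hi (h i (by omega))

/-- The value of a hom on the Euler characteristic of a derived direct image of a module. -/
theorem map_chi_rpush {Y S : Scheme.{u}} [IsLocallyNoetherian S] [CompactSpace S] (f : Y ⟶ S) [IsProper f]
    [HasInjectiveResolutions Y.Modules] {M : Y.Modules} (hM : Coh.IsCoh M) (φ : KZero.K0sub (coh S) →+ ℤ) :
    φ (K0Db.chi (coh S) ((DCoh.Rpush f).obj ((DerivedCategory.singleFunctor Y.Modules 0).obj M))) =
      ∑ᶠ p : ℕ, (-1 : ℤ) ^ p * φ (KZero.clSub (coh S) ((Coh.Rpush f p).obj M)) := by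
  haveI : IsLocallyNoetherian Y := LocallyOfFiniteType.isLocallyNoetherian f
  have hb := bdP_rpush f (K0Db.bd_single (serre Y) hM 0)
  unfold K0Db.chi
  rw [AddMonoidHom.map_finsum _ (K0Db.finite_support_term (serre S) hb), finsum_nat _ fun i hi => ?_]
  · refine finsum_congr fun p => ?_
    obtain ⟨e⟩ := Poinc13.nonempty_hd_rpush f M p
    rw [K0Db.term, map_zsmul, K0Db.clSub_iso (serre S) e (hb.1 _), smul_eq_mul]
    rfl
  · have hz := Poinc13.isZero_hd_rpush_neg f M i hi
    rw [K0Db.term, K0Cat.clSub_of_isZero hz ((serre S).zero hz), smul_zero, map_zero]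

/-- The rank of the derived direct image to a point is the Euler characteristic. -/
theorem rk_chi [HasInjectiveResolutions X.Modules] {K : DCoh.D X} (hK : K0Db.BdP (coh X) K) :
    rkHom k (K0Db.chi (coh (Spec (CommRingCat.of k))) ((DCoh.Rpush (X ↘ Spec (CommRingCat.of k))).obj K)) =
      eulerHom k X (K0Db.chi (coh X) K) := by
  let π := X ↘ Spec (CommRingCat.of k)
  haveI : IsLocallyNoetherian X := LocallyOfFiniteType.isLocallyNoetherian π
  have hP := serre X
  have hS := serre (Spec (CommRingCat.of k))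
  obtain ⟨_, _⟩ := DPush.exists_commShift_isTriangulated π
  suffices h : K0Db.BdP (coh X) K ∧ rkHom k (K0Db.chi (coh (Spec (CommRingCat.of k))) ((DCoh.Rpush π).obj K)) =
      eulerHom k X (K0Db.chi (coh X) K) from h.2
  refine K0Db.induction_bd (P := coh X) (fun L => K0Db.BdP (coh X) L ∧
    rkHom k (K0Db.chi (coh (Spec (CommRingCat.of k))) ((DCoh.Rpush π).obj L)) =
      eulerHom k X (K0Db.chi (coh X) L)) (fun {L L'} e h => ?_) (fun T hT h₁ h₃ => ?_) (fun L n h => ?_)
    (fun M hM => ⟨K0Db.bd_single hP hM 0, ?_⟩) (fun e => hP.iso e) K hK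
  · have hterm : ∀ {Z : Scheme.{u}} (hZ : K0Db.Serre (coh Z)) {A B : DCoh.D Z} (_ : A ≅ B),
        K0Db.BdP (coh Z) A → K0Db.BdP (coh Z) B ∧ K0Db.chi (coh Z) A = K0Db.chi (coh Z) B :=
      fun hZ A B e hA => by
        refine ⟨⟨fun i => hZ.iso ((DerivedCategory.homologyFunctor _ i).mapIso e) (hA.1 i), ?_⟩,
          finsum_congr fun i => ?_⟩
        · obtain ⟨-, a, b, ha, hb⟩ := hA
          exact ⟨a, b, @Triangulated.TStructure.isGE_of_iso _ _ _ _ _ _ _ _ _ _ e a ha,
            @Triangulated.TStructure.isLE_of_iso _ _ _ _ _ _ _ _ _ _ e b hb⟩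
        · rw [K0Db.term, K0Db.term, K0Db.clSub_iso hZ ((DerivedCategory.homologyFunctor _ i).mapIso e) (hA.1 i)]
    refine ⟨(hterm hP e h.1).1, ?_⟩
    rw [← (hterm hP e h.1).2, ← (hterm hS ((DCoh.Rpush π).mapIso e) (bdP_rpush π h.1)).2]
    exact h.2
  · have h₂ : K0Db.BdP (coh X) T.obj₂ := by
      obtain ⟨hc₁, a₁, b₁, ha₁, hb₁⟩ := h₁.1
      obtain ⟨hc₃, a₃, b₃, ha₃, hb₃⟩ := h₃.1
      let t := (DerivedCategory.TStructure.t : Triangulated.TStructure (DCoh.D X))
      refine ⟨fun i => hP.middle _ _ _ _ _ _ _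
        (DerivedCategory.HomologySequence.exact₁ T hT (i - 1) i (by omega))
        (DerivedCategory.HomologySequence.exact₂ T hT i)
        (DerivedCategory.HomologySequence.exact₃ T hT i (i + 1) rfl) (hc₃ (i - 1)) (hc₁ i) (hc₃ i) (hc₁ (i + 1)),
        min a₁ a₃, max b₁ b₃, ?_, ?_⟩
      · exact t.isGE₂ T hT _ (t.isGE_of_ge _ _ a₁ (min_le_left _ _)) (t.isGE_of_ge _ _ a₃ (min_le_right _ _))
      · exact t.isLE₂ T hT _ (t.isLE_of_le _ b₁ _ (le_max_left _ _)) (t.isLE_of_le _ b₃ _ (le_max_right _ _))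
    refine ⟨h₂, ?_⟩
    have e1 := K0Db.chi_tri hP T hT h₁.1 h₂ h₃.1
    have e2 := K0Db.chi_tri hS _ ((DCoh.Rpush π).map_distinguished T hT) (bdP_rpush π h₁.1) (bdP_rpush π h₂)
      (bdP_rpush π h₃.1)
    simp only [Functor.mapTriangle_obj, Triangle.mk_obj₁, Triangle.mk_obj₂, Triangle.mk_obj₃] at e2
    rw [e1, e2, map_add, map_add, h₁.2, h₃.2]
  · obtain ⟨hb, he⟩ := chi_shift hP L h.1 n
    refine ⟨hb, ?_⟩
    have hbL := bdP_rpush π h.1
    obtain ⟨hb', he'⟩ := chi_shift hS _ hbL n
    let e := ((DCoh.Rpush π).commShiftIso n).app L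
    have : K0Db.chi (coh (Spec (CommRingCat.of k))) ((DCoh.Rpush π).obj (L⟦n⟧)) =
        K0Db.chi (coh (Spec (CommRingCat.of k))) (((DCoh.Rpush π).obj L)⟦n⟧) :=
      finsum_congr fun i => by
        refine congrArg (fun x => ((i.negOnePow : ℤˣ) : ℤ) • x) ?_
        exact K0Db.clSub_iso hS ((DerivedCategory.homologyFunctor _ i).mapIso e)
          (hS.iso ((DerivedCategory.homologyFunctor _ i).mapIso e).symm (hb'.1 i))
    rw [this, he', he, map_zsmul, map_zsmul, h.2]
  · rw [map_chi_rpush π hM, K0Db.chi_single hP M hM, eulerHom, K0Cat.liftSub_clSub _ _ hM, Curv2.euler]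
    refine finsum_congr fun p => ?_
    rw [rkHom, K0Cat.liftSub_clSub _ _ (CohFound.isCoh_rpush π hM p), genRk_rpush hM p]

/-- The Euler characteristic as a sum over higher direct images. -/
theorem euler_eq_finsum {Y : Scheme.{u}} [Y.Over (Spec (CommRingCat.of k))]
    [IsProper (Y ↘ Spec (CommRingCat.of k))] (f : Y ⟶ X) (hf : f ≫ (X ↘ Spec (CommRingCat.of k)) = Y ↘ Spec (CommRingCat.of k))
    [HasInjectiveResolutions Y.Modules] {G : Y.Modules} (hG : Coh.IsCoh G) :
    Curv2.euler k Y G = ∑ᶠ i : ℕ, (-1 : ℤ) ^ i * Curv2.euler k X ((Coh.Rpush f i).obj G) := by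
  haveI : IsProper (f ≫ (X ↘ Spec (CommRingCat.of k))) := by rw [hf]; infer_instance
  haveI : IsProper f := MorphismProperty.of_postcomp (W := @IsProper) (W' := @IsSeparated) f (X ↘ Spec (CommRingCat.of k)) inferInstance inferInstance
  haveI : IsLocallyNoetherian X := LocallyOfFiniteType.isLocallyNoetherian (X ↘ Spec (CommRingCat.of k))
  haveI : IsLocallyNoetherian Y := LocallyOfFiniteType.isLocallyNoetherian f
  haveI : CompactSpace X := QuasiCompact.compactSpace_of_compactSpace (X ↘ Spec (CommRingCat.of k))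
  haveI : HasInjectiveResolutions X.Modules := CohFound.hasInjectiveResolutions_modules _
  have hbG := K0Db.bd_single (serre Y) hG 0
  have hY := rk_chi (k := k) (X := Y) hbG
  rw [K0Db.chi_single (serre Y) G hG, eulerHom, K0Cat.liftSub_clSub _ _ hG] at hY
  let e := (FMBase13.rpushComp f (X ↘ Spec (CommRingCat.of k)) hf).app
    ((DerivedCategory.singleFunctor Y.Modules 0).obj G)
  have hb2 := bdP_rpush f hbG
  have he : K0Db.chi (coh (Spec (CommRingCat.of k))) ((DCoh.Rpush (X ↘ Spec (CommRingCat.of k))).obj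
      ((DCoh.Rpush f).obj ((DerivedCategory.singleFunctor Y.Modules 0).obj G))) =
      K0Db.chi (coh (Spec (CommRingCat.of k))) ((DCoh.Rpush (Y ↘ Spec (CommRingCat.of k))).obj
        ((DerivedCategory.singleFunctor Y.Modules 0).obj G)) :=
    finsum_congr fun i => by
      refine congrArg (fun x => ((i.negOnePow : ℤˣ) : ℤ) • x) ?_
      exact K0Db.clSub_iso (serre _) ((DerivedCategory.homologyFunctor _ i).mapIso e)
        ((bdP_rpush (X ↘ Spec (CommRingCat.of k)) hb2).1 i)
  rw [← hY, ← he, rk_chi hb2, map_chi_rpush f hG]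
  refine finsum_congr fun p => ?_
  rw [eulerHom, K0Cat.liftSub_clSub _ _ (CohFound.isCoh_rpush f hG p)]

end Groth.Agent.EulerPush13
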